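/-
Plane curves and hypersurfaces under a change of coefficients followed by a diagonal change of coordinates.
-/
import Groth.Agent.Lib.PlaneFF17.Scheme
import Groth.Agent.Lib.LefPen13.Glue
import Groth.Agent.Lib.ProjSpace.BaseChange
import Groth.Agent.Lib.EffCartier.Basic
import Groth.Agent.Lib.ConicDesc28.Charts

set_option autoImplicit false
set_option linter.style.haveILetI false
set_option backward.isDefEq.respectTransparency false
set_option backward.isDefEq.respectTransparency.types false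

universe u

open CategoryTheory CategoryTheory.Limits AlgebraicGeometry MvPolynomial HomogeneousLocalization TopologicalSpace

noncomputable section

namespace Groth.Agent.GenusOne14

attribute [local instance] MvPolynomial.gradedAlgebra

variable {R S : Type u} [Field R] [Field S] {n : ℕ}

local notation "GS" => CohB1.polyGrading n S
local notation "GR" => CohB1.polyGrading n R

theorem subst_isHomogeneous (a : Fin (n + 1) → S) (j : Fin (n + 1)) :
    (C (a j) * X j : MvPolynomial (Fin (n + 1)) S).IsHomogeneous 1 :=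
  (isHomogeneous_X S j).C_mul (a j)

/-- Coefficients through `τ`, coordinates scaled by `a`. -/
def scaleHom (τ : R →+* S) (a : Fin (n + 1) → S) : GR →+*ᵍ GS where
  __ := eval₂Hom ((C : S →+* MvPolynomial (Fin (n + 1)) S).comp τ) fun j => C (a j) * X j
  map_mem {d p} hp := by
    have h := IsHomogeneous.eval₂ (n := 1) (show p.IsHomogeneous d from hp)
      ((C : S →+* MvPolynomial (Fin (n + 1)) S).comp τ) (fun j => C (a j) * X j)
      (fun r => isHomogeneous_C _ _) (subst_isHomogeneous a)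
    show (eval₂ ((C : S →+* MvPolynomial (Fin (n + 1)) S).comp τ) (fun j => C (a j) * X j) p).IsHomogeneous d
    simpa using h

theorem scaleHom_C (τ : R →+* S) (a : Fin (n + 1) → S) (r : R) : scaleHom τ a (C r) = C (τ r) :=
  eval₂Hom_C _ _ r

theorem scaleHom_X (τ : R →+* S) (a : Fin (n + 1) → S) (j : Fin (n + 1)) :
    scaleHom τ a (X j) = C (a j) * X j :=
  eval₂Hom_X' _ _ j

theorem scale_irrelevant (τ : R →+* S) (a : Fin (n + 1) → S) (ha : ∀ j, a j ≠ 0) :
    HomogeneousIdeal.irrelevant GS ≤ (HomogeneousIdeal.irrelevant GR).map (scaleHom τ a) := by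
  rw [← toIdeal_le_toIdeal_iff, HomogeneousIdeal.toIdeal_map]
  refine (ProjSpace.irrelevant_le_span n S).trans (Ideal.span_le.2 ?_)
  rintro _ ⟨j, rfl⟩
  have e : (X j : MvPolynomial (Fin (n + 1)) S) = C (a j)⁻¹ * scaleHom τ a (X j) := by
    rw [scaleHom_X, ← mul_assoc, ← C_mul, inv_mul_cancel₀ (ha j), C_1, one_mul]
  show (X j : MvPolynomial (Fin (n + 1)) S) ∈ _
  rw [e]
  exact Ideal.mul_mem_left _ _
    (Ideal.mem_map_of_mem _ (HomogeneousIdeal.mem_irrelevant_of_mem _ Nat.one_pos (ProjSpace.X_mem' n R j)))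

/-- The induced morphism of projective spaces. -/
def scaleMap (τ : R →+* S) (a : Fin (n + 1) → S) (ha : ∀ j, a j ≠ 0) :
    CohB1.ProjSpace n S ⟶ CohB1.ProjSpace n R :=
  Proj.map (scaleHom τ a) (scale_irrelevant τ a ha)

theorem scaleMap_preimage_chart (τ : R →+* S) (a : Fin (n + 1) → S) (ha : ∀ j, a j ≠ 0) (j : Fin (n + 1)) :
    scaleMap τ a ha ⁻¹ᵁ LefPen.chart n R j = LefPen.chart n S j := by
  show Proj.map (scaleHom τ a) _ ⁻¹ᵁ Proj.basicOpen GR (X j) = Proj.basicOpen GS (X j)
  rw [Proj.map_preimage_basicOpen, scaleHom_X, Proj.basicOpen_mul]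
  refine inf_eq_right.2 fun x _ => ?_
  show C (a j) ∉ x.asHomogeneousIdeal
  intro h
  exact x.isPrime.ne_top (Ideal.eq_top_of_isUnit_mem _ h ((Ne.isUnit (ha j)).map C))

/-- The image form. -/
def scaleForm (τ : R →+* S) (a : Fin (n + 1) → S) {d : ℕ} (f : LefPen.Form n R d) : LefPen.Form n S d :=
  ⟨scaleHom τ a f.1, (scaleHom τ a).2 f.2⟩

theorem appLE_dehom (τ : R →+* S) (a : Fin (n + 1) → S) (ha : ∀ j, a j ≠ 0) {d : ℕ} (f : LefPen.Form n R d)
    (j : Fin (n + 1)) :
    (scaleMap τ a ha).appLE (LefPen.chart n R j) (LefPen.chart n S j) (scaleMap_preimage_chart τ a ha j).ge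
        (LefPen.dehom f j) =
      LefPen.dehom (scaleForm τ a f) j * LefPen13.dh S n j (C ((a j)⁻¹ ^ d)) := by
  have hle : LefPen.chart n S j ≤ Proj.basicOpen GS (scaleHom τ a (X j)) :=
    (scaleMap_preimage_chart τ a ha j).ge
  have hs : scaleHom τ a (X j) ∈ GS 1 := (scaleHom τ a).2 (LefPen.X_mem n R j)
  have hfd : f.1 ∈ GR (d • 1) := by rw [smul_eq_mul, mul_one]; exact f.2
  have hfs : scaleHom τ a f.1 ∈ GS (d • 1) := (scaleHom τ a).2 hfd
  have h1 : (scaleMap τ a ha).appLE (LefPen.chart n R j) (LefPen.chart n S j)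
      (scaleMap_preimage_chart τ a ha j).ge (LefPen.dehom f j) =
      (CohB1.ProjSpace n S).presheaf.map (homOfLE hle).op
        ((Proj.awayToSection GS (scaleHom τ a (X j))).hom
          (Away.mk GS hs d (scaleHom τ a f.1) hfs)) := by
    have h := congrArg (fun q => q (Away.mk GR (LefPen.X_mem n R j) d f.1 hfd))
      (Proj.awayToSection_comp_appLE (scaleHom τ a) (scale_irrelevant τ a ha) (LefPen.X_mem n R j))
    simp only [ConcreteCategory.comp_apply] at h
    erw [Away.map_mk] at h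
    rw [← Scheme.Hom.appLE_map (scaleMap τ a ha) le_rfl (homOfLE hle).op, ConcreteCategory.comp_apply]
    exact congrArg _ h
  refine h1.trans ?_
  have h2 : LefPen13.dh S n j (C ((a j)⁻¹ ^ d)) =
      LefPen.dehom (⟨C ((a j)⁻¹ ^ d), isHomogeneous_C _ _⟩ : LefPen.Form n S 0) j :=
    (LefPen13.dehom_eq_dh (k := S) (⟨C ((a j)⁻¹ ^ d), isHomogeneous_C _ _⟩ : LefPen.Form n S 0) j).symm
  rw [h2]
  refine Twist.sectionO_ext (𝒜 := GS) fun x hx => ?_
  erw [Twist.valO_mul, Twist.valO_map]
  simp only [LefPen.dehom]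
  erw [Twist.valO_awayToSection GS hs _ x (hle hx) (Twist.pow_notMem GS (hle hx) d),
    Twist.valO_awayToSection GS (LefPen.X_mem n S j) _ x hx (Twist.pow_notMem GS hx d),
    Twist.valO_awayToSection GS (LefPen.X_mem n S j) _ x hx (Twist.pow_notMem GS hx 0)]
  rw [Localization.mk_mul, Localization.mk_eq_mk_iff, Localization.r_iff_exists]
  refine ⟨1, ?_⟩
  have e : (C (a j) : MvPolynomial (Fin (n + 1)) S) ^ d * C (a j)⁻¹ ^ d = 1 := by
    rw [← mul_pow, ← C_mul, mul_inv_cancel₀ (ha j), C_1, one_pow]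
  simp only [OneMemClass.coe_one, one_mul, Submonoid.coe_mul, pow_zero, mul_one, scaleHom_X, mul_pow, scaleForm,
    map_pow]
  linear_combination (-(scaleHom τ a f.1) * X j ^ d) * e

/-- Hypersurfaces pull back to hypersurfaces. -/
theorem comap_hypIdeal (τ : R →+* S) (a : Fin (n + 1) → S) (ha : ∀ j, a j ≠ 0) {d : ℕ} (f : LefPen.Form n R d) :
    (LefPen.hypIdeal f).comap (scaleMap τ a ha) = LefPen.hypIdeal (scaleForm τ a f) := by
  refine Scheme.IdealSheafData.ext_of_iSup_eq_top
    (fun j : Fin (n + 1) => ⟨LefPen.chart n S j, ProjDim18.isAffineOpen_chart j⟩) ?_ fun j => ?_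
  · refine top_le_iff.1 fun x _ => ?_
    obtain ⟨j, hj⟩ := ProjSpace.exists_mem_chart n S x
    refine Opens.mem_iSup.2 ⟨j, ?_⟩
    show x ∈ LefPen.chart n S j
    rw [show LefPen.chart n S j = (ProjSpace.chart n S j).opensRange from (ProjSpace.opensRange_chart n S j).symm]
    exact hj
  · rw [EffCartier.comap_ideal (LefPen.hypIdeal f) (scaleMap τ a ha)
      ⟨_, ProjDim18.isAffineOpen_chart j⟩ ⟨_, ProjDim18.isAffineOpen_chart j⟩
      (scaleMap_preimage_chart τ a ha j).ge, LefPen13.hypIdeal_chart, LefPen13.hypIdeal_chart, Ideal.map_span,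
      Set.image_singleton]
    erw [appLE_dehom τ a ha f j]
    exact Ideal.span_singleton_mul_right_unit
      ((((Ne.isUnit (pow_ne_zero d (inv_ne_zero (ha j)))).map C)).map (LefPen13.dh S n j)) _

/-- The standard change of coefficients. -/
theorem scaleMap_one (τ : R →+* S) :
    scaleMap (n := n) τ (fun _ => 1) (fun _ => one_ne_zero) = ProjSpace.map n τ := by
  have e : scaleHom (n := n) τ (fun _ => 1) = ProjSpace.mapHom n τ := by
    refine GradedRingHom.ext fun p => ?_
    show eval₂Hom ((C : S →+* MvPolynomial (Fin (n + 1)) S).comp τ) (fun j => C 1 * X j) p = MvPolynomial.map τ p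
    simp only [C_1, one_mul]
    exact RingHom.congr_fun (MvPolynomial.ringHom_ext (fun r => by simp) fun j => by simp) p
  unfold scaleMap ProjSpace.map
  congr 1

theorem scaleHom_comp {T : Type u} [Field T] (τ : R →+* S) (τ' : S →+* T) (a : Fin (n + 1) → S)
    (a' : Fin (n + 1) → T) :
    (scaleHom τ' a').comp (scaleHom τ a) = scaleHom (τ'.comp τ) fun j => τ' (a j) * a' j := by
  refine GradedRingHom.ext fun p => ?_
  show ((scaleHom τ' a' : CohB1.polyGrading n S →+*ᵍ CohB1.polyGrading n T).toRingHom.comp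
    (scaleHom τ a).toRingHom) p = (scaleHom (τ'.comp τ) fun j => τ' (a j) * a' j).toRingHom p
  refine RingHom.congr_fun (MvPolynomial.ringHom_ext (fun r => ?_) fun j => ?_) p
  · show scaleHom τ' a' (scaleHom τ a (C r)) = scaleHom _ _ (C r)
    rw [scaleHom_C, scaleHom_C, scaleHom_C]
    rfl
  · show scaleHom τ' a' (scaleHom τ a (X j)) = scaleHom _ _ (X j)
    rw [scaleHom_X, map_mul, scaleHom_C, scaleHom_X, scaleHom_X, ← mul_assoc, ← C_mul]

theorem scaleMap_comp {T : Type u} [Field T] (τ : R →+* S) (τ' : S →+* T) (a : Fin (n + 1) → S)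
    (a' : Fin (n + 1) → T) (ha : ∀ j, a j ≠ 0) (ha' : ∀ j, a' j ≠ 0) (σ : R →+* T) (b : Fin (n + 1) → T)
    (hb : ∀ j, b j ≠ 0) (hσ : τ'.comp τ = σ) (hab : ∀ j, τ' (a j) * a' j = b j) :
    scaleMap τ' a' ha' ≫ scaleMap τ a ha = scaleMap σ b hb := by
  obtain rfl : b = fun j => τ' (a j) * a' j := funext fun j => (hab j).symm
  subst hσ
  unfold scaleMap
  rw [← Proj.map_comp]
  congr 1
  exact scaleHom_comp τ τ' a a'

theorem scaleMap_id_toSpec (a : Fin (n + 1) → S) (ha : ∀ j, a j ≠ 0) :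
    scaleMap (RingHom.id S) a ha ≫ CohB1.ProjSpace.toSpec n S = CohB1.ProjSpace.toSpec n S := by
  refine (ProjSpace.cover n S).hom_ext _ _ fun i => ?_
  obtain ⟨j⟩ := i
  show ProjSpace.chart n S j ≫ _ = ProjSpace.chart n S j ≫ _
  rw [ProjSpace.chart_toSpec, ← Category.assoc]
  have h := ConicDesc28.chartP_comp_map (scaleHom (RingHom.id S) a) (scale_irrelevant _ a ha) (RingHom.id S)
    (scaleHom_C _ a) j j (a j)⁻¹ (by
      rw [map_mul, scaleHom_C, scaleHom_X, RingHom.id_apply, mul_right_comm, ← C_mul, mul_inv_cancel₀ (ha j), C_1,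
        one_mul])
  show (ProjSpace.chartP n S j ≫ Proj.map (scaleHom (RingHom.id S) a) _) ≫ _ = _
  rw [h, Category.assoc]
  show _ ≫ ProjSpace.chart n S j ≫ _ = _
  rw [ProjSpace.chart_toSpec, ← Spec.map_comp, ← CommRingCat.ofHom_comp]
  congr 2
  exact RingHom.ext fun r => eval₂Hom_C _ _ r

theorem scaleMap_toSpec (τ : R →+* S) (a : Fin (n + 1) → S) (ha : ∀ j, a j ≠ 0) :
    scaleMap τ a ha ≫ CohB1.ProjSpace.toSpec n R =
      CohB1.ProjSpace.toSpec n S ≫ Spec.map (CommRingCat.ofHom τ) := by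
  rw [← scaleMap_comp τ (RingHom.id S) (fun _ => 1) a (fun _ => one_ne_zero) ha τ a ha (RingHom.id_comp _)
    (fun j => by rw [map_one, one_mul]), scaleMap_one, Category.assoc, (ProjSpace.isPullback_map n τ).w,
    ← Category.assoc, scaleMap_id_toSpec]

theorem scaleMap_id (hb : ∀ _j : Fin (n + 1), (1 : S) ≠ 0) :
    scaleMap (RingHom.id S) (fun _ => 1) hb = 𝟙 (CohB1.ProjSpace n S) := by
  have e : scaleHom (n := n) (RingHom.id S) (fun _ => 1) = GradedRingHom.id GS := by
    refine GradedRingHom.ext fun p => ?_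
    show eval₂Hom ((C : S →+* MvPolynomial (Fin (n + 1)) S).comp (RingHom.id S)) (fun j => C 1 * X j) p = p
    simp only [C_1, one_mul]
    exact eval₂_eta p
  unfold scaleMap
  simp only [e]
  exact Proj.map_id

/-- A diagonal change of coordinates is an automorphism. -/
theorem isIso_scaleMap_id (a : Fin (n + 1) → S) (ha : ∀ j, a j ≠ 0) :
    IsIso (scaleMap (RingHom.id S) a ha) := by
  have hb : ∀ j, (a j)⁻¹ ≠ 0 := fun j => inv_ne_zero (ha j)
  refine ⟨scaleMap (RingHom.id S) (fun j => (a j)⁻¹) hb, ?_, ?_⟩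
  · exact (scaleMap_comp _ _ _ _ hb ha (RingHom.id S) (fun _ => 1) (fun _ => one_ne_zero) (RingHom.id_comp _)
      (fun j => inv_mul_cancel₀ (ha j))).trans (scaleMap_id _)
  · exact (scaleMap_comp _ _ _ _ ha hb (RingHom.id S) (fun _ => 1) (fun _ => one_ne_zero) (RingHom.id_comp _)
      (fun j => mul_inv_cancel₀ (ha j))).trans (scaleMap_id _)

end Groth.Agent.GenusOne14
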