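/-
Plane cubics over fields: base change, genus one, coordinate changes and rational points.
-/
import Groth.Agent.Lib.GenusOne14.BaseChange
import Groth.Agent.Lib.PlaneFF17.Smooth
import Groth.Agent.Lib.CurveCoh17.P1Genus
import Groth.Agent.S7840
import Groth.Prelude.Def_ModFun

set_option autoImplicit false
set_option linter.style.haveILetI false
set_option backward.isDefEq.respectTransparency false
set_option backward.isDefEq.respectTransparency.types false

universe u

open CategoryTheory CategoryTheory.Limits AlgebraicGeometry MvPolynomial TopologicalSpace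

noncomputable section

namespace Groth.Agent.GenusOne14

variable {R S : Type u} [Field R] [Field S]

/-- The structure morphism of a hypersurface. -/
abbrev hypStr {n d : ℕ} (f : LefPen.Form n R d) : (LefPen.hypIdeal f).subscheme ⟶ Spec (CommRingCat.of R) :=
  (LefPen.hypIdeal f).subschemeι ≫ CohB1.ProjSpace.toSpec n R

theorem exists_square {n d : ℕ} (τ : R →+* S) (a : Fin (n + 1) → S) (ha : ∀ j, a j ≠ 0) (f : LefPen.Form n R d) :
    ∃ g : (LefPen.hypIdeal (scaleForm τ a f)).subscheme ⟶ (LefPen.hypIdeal f).subscheme,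
      IsPullback g (LefPen.hypIdeal (scaleForm τ a f)).subschemeι (LefPen.hypIdeal f).subschemeι (scaleMap τ a ha) := by
  rw [← comap_hypIdeal τ a ha f]
  let M := scaleMap τ a ha
  let I := LefPen.hypIdeal f
  refine ⟨(I.comapIso M).hom ≫ pullback.snd M I.subschemeι, ?_⟩
  refine IsPullback.of_iso (IsPullback.of_hasPullback M I.subschemeι).flip (I.comapIso M).symm (Iso.refl _)
    (Iso.refl _) (Iso.refl _) ?_ ?_ (by simp [I]) (by simp [M])
  · simp only [Iso.refl_hom, Category.comp_id, Iso.symm_hom]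
    exact (Iso.inv_hom_id_assoc _ _).symm
  · simp only [Iso.refl_hom, Category.comp_id, Iso.symm_hom]
    exact (Scheme.IdealSheafData.comapIso_inv_subschemeι I M).symm

/-- Extension of the ground field. -/
theorem exists_bc {n d : ℕ} (τ : R →+* S) (f : LefPen.Form n R d) :
    ∃ g, IsPullback g (hypStr (scaleForm τ (fun _ => 1) f)) (hypStr f) (Spec.map (CommRingCat.ofHom τ)) := by
  obtain ⟨g, hg⟩ := exists_square τ (fun _ => 1) (fun _ => one_ne_zero) f
  exact ⟨g, hg.paste_vert (by rw [scaleMap_one]; exact ProjSpace.isPullback_map n τ)⟩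

/-- Diagonal change of coordinates. -/
theorem exists_scale_iso {n d : ℕ} (a : Fin (n + 1) → S) (ha : ∀ j, a j ≠ 0) (f : LefPen.Form n S d) :
    ∃ e : (LefPen.hypIdeal (scaleForm (RingHom.id S) a f)).subscheme ≅ (LefPen.hypIdeal f).subscheme,
      e.hom ≫ hypStr f = hypStr (scaleForm (RingHom.id S) a f) := by
  obtain ⟨g, hg⟩ := exists_square (RingHom.id S) a ha f
  haveI := isIso_scaleMap_id a ha
  haveI : IsIso g := hg.isIso_fst_of_isIso
  refine ⟨asIso g, ?_⟩
  rw [asIso_hom, hypStr, hg.w_assoc, scaleMap_id_toSpec]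

theorem scaleForm_ne_zero {n d : ℕ} (τ : R →+* S) (f : LefPen.Form n R d) (hf : f ≠ 0) :
    scaleForm τ (fun _ => 1) f ≠ 0 := by
  intro h
  have h1 : MvPolynomial.map τ f.1 = 0 := by
    have h2 : scaleHom τ (fun _ => 1) f.1 = 0 := congrArg Subtype.val h
    have h3 : scaleHom (n := n) τ (fun _ => 1) f.1 = MvPolynomial.map τ f.1 := by
      show eval₂Hom ((C : S →+* MvPolynomial (Fin (n + 1)) S).comp τ) (fun j => C 1 * X j) f.1 = MvPolynomial.map τ f.1
      simp only [C_1, one_mul]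
      exact RingHom.congr_fun (MvPolynomial.ringHom_ext (fun r => by simp) fun j => by simp) f.1
    exact h3.symm.trans h2
  exact hf (Subtype.ext (MvPolynomial.map_injective τ τ.injective (h1.trans (map_zero _).symm)))

/-- A smooth plane cubic is a curve of genus one. -/
theorem isCurveOfGenus_one {K : Type u} [Field K] (f : LefPen.Form 2 K 3) (hf : f ≠ 0) (hsm : Smooth (hypStr f)) :
    ModFun.IsCurveOfGenus 1 (hypStr f) := by
  haveI := hsm
  haveI : IsProper (CohB1.ProjSpace.toSpec 2 K) := ProjSpace.isProper_toSpec 2 K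
  have key : ∀ (Ω : Type u) [Field Ω] (t : Spec (CommRingCat.of Ω) ⟶ Spec (CommRingCat.of K)) (Z : Scheme.{u})
      (i : Z ⟶ (LefPen.hypIdeal f).subscheme) (q : Z ⟶ Spec (CommRingCat.of Ω)), IsPullback i q (hypStr f) t →
      ∃ (G : LefPen.Form 2 Ω 3), G ≠ 0 ∧ Smooth (hypStr G) ∧
        ∃ e : Z ≅ (LefPen.hypIdeal G).subscheme, e.hom ≫ hypStr G = q := by
    intro Ω _ t Z i q h
    obtain ⟨τ, rfl⟩ : ∃ τ : K →+* Ω, Spec.map (CommRingCat.ofHom τ) = t := ⟨(Spec.preimage t).hom, Spec.map_preimage t⟩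
    obtain ⟨g, hg⟩ := exists_bc τ f
    refine ⟨_, scaleForm_ne_zero τ f hf, MorphismProperty.of_isPullback (P := @Smooth) hg hsm,
      h.isoIsPullback _ _ hg, h.isoIsPullback_hom_snd _ _ hg⟩
  refine ⟨hsm, inferInstance, ⟨?_⟩, fun Ω _ _ t Z i q h => ?_⟩
  · intro Ω _ t Z i q h
    obtain ⟨G, hG, hGs, e, -⟩ := key Ω t Z i q h
    letI : (LefPen.hypIdeal G).subscheme.Over (Spec (CommRingCat.of Ω)) := ⟨hypStr G⟩
    haveI : Smooth ((LefPen.hypIdeal G).subscheme ↘ Spec (CommRingCat.of Ω)) := hGs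
    haveI := (PlaneFF17.isIntegral_hyp G (by norm_num) hG rfl).2
    exact (Scheme.homeoOfIso e).symm.surjective.irreducibleSpace (Scheme.homeoOfIso e).symm.continuous
  · obtain ⟨G, hG, -, e, he⟩ := key Ω t Z i q h
    letI : (LefPen.hypIdeal G).subscheme.Over (Spec (CommRingCat.of Ω)) := ⟨hypStr G⟩
    letI : Z.Over (Spec (CommRingCat.of Ω)) := ⟨q⟩
    refine ⟨?_, ?_⟩
    · rw [IsHomeomorph.topologicalKrullDim_eq _ (Scheme.homeoOfIso e).isHomeomorph]
      exact PlaneFF17.topologicalKrullDim_hyp G (by norm_num) hG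
    · rw [CurveCoh17.genus_eq_of_iso e.hom he]
      have := (Groth.Agent.S7840.result Ω 3 (by norm_num) G hG rfl).2.2
      simpa [Curv2.genus] using this

/-- A rational point of a plane curve has coordinates. -/
theorem exists_coords {K : Type u} [Field K] {d : ℕ} (f : LefPen.Form 2 K d)
    (σ : Spec (CommRingCat.of K) ⟶ (LefPen.hypIdeal f).subscheme) (hσ : σ ≫ hypStr f = 𝟙 _) :
    ∃ v : Fin 3 → K, v ≠ 0 ∧ aeval v f.1 = 0 := by
  let ι := (LefPen.hypIdeal f).subschemeι
  let p : Spec (CommRingCat.of K) := IsLocalRing.closedPoint K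
  obtain ⟨j, hj⟩ : ∃ j, σ p ∈ LefPen13.V ι j :=
    Opens.mem_iSup.1 ((LefPen13.iSup_V ι).ge (trivial : σ p ∈ (⊤ : (LefPen.hypIdeal f).subscheme.Opens)))
  have hV := LefPen13.isAffineOpen_V ι j
  have hrange : Set.range σ ⊆ Set.range hV.fromSpec := by
    rintro _ ⟨x, rfl⟩
    rw [hV.range_fromSpec, show x = p from Subsingleton.elim _ _]
    exact hj
  let χ : LefPen13.A ι j →+* K := (Spec.preimage (IsOpenImmersion.lift hV.fromSpec σ hrange)).hom
  have hχ : Spec.map (CommRingCat.ofHom χ) ≫ hV.fromSpec = σ := by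
    show Spec.map (Spec.preimage _) ≫ _ = σ
    rw [Spec.map_preimage, IsOpenImmersion.lift_fac]
  have hc : χ.comp (algebraMap K (LefPen13.A ι j)) = RingHom.id K := by
    have h1 : Spec.map (CommRingCat.ofHom (χ.comp (algebraMap K (LefPen13.A ι j)))) = Spec.map (𝟙 (CommRingCat.of K)) := by
      rw [CommRingCat.ofHom_comp, Spec.map_comp, ← LefPen13.fromSpec_toSpec_V ι j, ← Category.assoc, hχ, Spec.map_id]
      exact hσ
    exact congrArg CommRingCat.Hom.hom (Spec.map_injective h1)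
  let χ' : LefPen13.A ι j →ₐ[K] K := { χ with commutes' := fun r => RingHom.congr_fun hc r }
  let ψ := χ'.comp (PlaneFF17.chartAlgHom f j)
  have hψ : ∀ F, ψ F = aeval (fun l => ψ (X l)) F := fun F =>
    AlgHom.congr_fun (MvPolynomial.algHom_ext (f := ψ) (g := aeval fun l => ψ (X l)) fun l => (aeval_X (R := K) (fun l => ψ (X l)) l).symm) F
  have h0 : ∀ F ∈ Ideal.span (Set.range (PlaneFF17.chartEqs f j)), ψ F = 0 := fun F hF => by
    rw [← PlaneFF17.ker_chartAlgHom] at hF
    show χ' (PlaneFF17.chartAlgHom f j F) = 0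
    rw [show PlaneFF17.chartAlgHom f j F = 0 from RingHom.mem_ker.1 hF, map_zero]
  refine ⟨fun l => ψ (X l), fun h => ?_, ?_⟩
  · have h1 := h0 _ (Ideal.subset_span ⟨1, rfl⟩)
    simp only [PlaneFF17.chartEqs, Matrix.cons_val_one, Matrix.cons_val_zero, map_sub, map_one] at h1
    rw [show ψ (X j) = 0 from congrFun h j, zero_sub, neg_eq_zero] at h1
    exact one_ne_zero h1
  · rw [← hψ]
    exact h0 _ (Ideal.subset_span ⟨0, rfl⟩)

/-- A zero with a coordinate `1` gives a rational point. -/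
theorem exists_point {K : Type u} [Field K] {d : ℕ} (f : LefPen.Form 2 K d) (v : Fin 3 → K) (j : Fin 3)
    (hvj : v j = 1) (hv : aeval v f.1 = 0) :
    ∃ σ : Spec (CommRingCat.of K) ⟶ (LefPen.hypIdeal f).subscheme, σ ≫ hypStr f = 𝟙 _ := by
  let ι := (LefPen.hypIdeal f).subschemeι
  let χ : Synt.RelGCIRing K 3 2 (PlaneFF17.chartEqs f j) →ₐ[K] K := Ideal.Quotient.liftₐ _ (aeval v) fun a ha => by
    refine (Ideal.span_le (I := RingHom.ker (aeval (R := K) v).toRingHom)).2 ?_ ha
    rintro _ ⟨i, rfl⟩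
    fin_cases i
    · exact hv
    · show aeval v (X j - 1) = 0
      simp [hvj]
  let χ' : LefPen13.A ι j →ₐ[K] K := χ.comp (PlaneFF17.chartEquiv f j).symm.toAlgHom
  refine ⟨Spec.map (CommRingCat.ofHom χ'.toRingHom) ≫ (LefPen13.isAffineOpen_V ι j).fromSpec, ?_⟩
  rw [Category.assoc, LefPen13.fromSpec_toSpec_V ι j, ← Spec.map_comp, ← CommRingCat.ofHom_comp, ← Spec.map_id]
  congr 1
  ext r
  exact χ'.commutes r

end Groth.Agent.GenusOne14
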