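/-
The cubics `a x³ + b y³ + c z³ + e xyz`, and a twist without rational points over `k(t)`.
-/
import Groth.Agent.Lib.GenusOne14.Curve
import Mathlib.FieldTheory.RatFunc.AsPolynomial

set_option autoImplicit false
set_option linter.style.haveILetI false

universe u

open CategoryTheory AlgebraicGeometry MvPolynomial

noncomputable section

namespace Groth.Agent.GenusOne14

variable {K L : Type u} [Field K] [Field L]

/-- The underlying polynomial. -/
def cubPoly (a b c e : K) : MvPolynomial (Fin 3) K :=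
  C a * X 0 ^ 3 + C b * X 1 ^ 3 + C c * X 2 ^ 3 + C e * (X 0 * X 1 * X 2)

theorem cubPoly_mem (a b c e : K) : cubPoly a b c e ∈ CohB1.polyGrading 2 K 3 :=
  (((isHomogeneous_X_pow (R := K) (0 : Fin 3) 3).C_mul a).add
    ((isHomogeneous_X_pow (R := K) (1 : Fin 3) 3).C_mul b)).add
      ((isHomogeneous_X_pow (R := K) (2 : Fin 3) 3).C_mul c) |>.add
        ((((isHomogeneous_X K (0 : Fin 3)).mul (isHomogeneous_X K 1)).mul (isHomogeneous_X K 2)).C_mul e)

/-- The cubic as a form. -/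
def cub (a b c e : K) : LefPen.Form 2 K 3 := ⟨cubPoly a b c e, cubPoly_mem a b c e⟩

theorem aeval_cub [Algebra K L] (a b c e : K) (v : Fin 3 → L) :
    aeval v (cub a b c e).1 = algebraMap K L a * v 0 ^ 3 + algebraMap K L b * v 1 ^ 3 + algebraMap K L c * v 2 ^ 3 +
      algebraMap K L e * (v 0 * v 1 * v 2) := by
  simp [cub, cubPoly]

theorem cub_ne_zero {a : K} (ha : a ≠ 0) (b c e : K) : cub a b c e ≠ 0 := by
  intro h
  have h1 : aeval (![1, 0, 0] : Fin 3 → K) (cub a b c e).1 = 0 := by rw [h]; simp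
  rw [aeval_cub] at h1
  simp at h1
  exact ha h1

theorem scaleForm_cub (τ : K →+* L) (s : Fin 3 → L) (a b c e : K) :
    scaleForm τ s (cub a b c e) = cub (τ a * s 0 ^ 3) (τ b * s 1 ^ 3) (τ c * s 2 ^ 3) (τ e * (s 0 * s 1 * s 2)) := by
  apply Subtype.ext
  show scaleHom τ s (cubPoly a b c e) = cubPoly _ _ _ _
  simp only [cubPoly, map_add, map_mul, map_pow, scaleHom_C, scaleHom_X]
  ring

theorem smooth_cub {a b c e : K} (ha : a ≠ 0) (hb : b ≠ 0) (hc : c ≠ 0) (he : e ≠ 0)
    (h : e ^ 3 + 27 * (a * b * c) ≠ 0) : Smooth (hypStr (cub a b c e)) := by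
  refine (PlaneFF17.smooth_iff _ (by norm_num) (cub_ne_zero ha b c e)).2 fun v hv hF => ?_
  by_contra hh
  push Not at hh
  let φ := algebraMap K (AlgebraicClosure K)
  have hφ : ∀ {x : K}, x ≠ 0 → φ x ≠ 0 := fun hx => (map_ne_zero φ).2 hx
  have h0 := hh 0
  have h1 := hh 1
  have h2 := hh 2
  simp [cub, cubPoly, pderiv_X] at h0 h1 h2
  rw [aeval_cub] at hF
  have e0 : 3 * (φ a * v 0 ^ 3) + φ e * (v 0 * v 1 * v 2) = 0 := by linear_combination (v 0) * h0
  have e1 : 3 * (φ b * v 1 ^ 3) + φ e * (v 0 * v 1 * v 2) = 0 := by linear_combination (v 1) * h1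
  have e2 : 3 * (φ c * v 2 ^ 3) + φ e * (v 0 * v 1 * v 2) = 0 := by linear_combination (v 2) * h2
  have hzero : v 0 * v 1 * v 2 = 0 := by
    by_contra hp
    have key : (φ e ^ 3 + 27 * (φ a * φ b * φ c)) * (v 0 * v 1 * v 2) ^ 3 = 0 := by
      linear_combination (9 * (φ b * v 1 ^ 3) * (φ c * v 2 ^ 3)) * e0 -
        (3 * (φ e * (v 0 * v 1 * v 2)) * (φ c * v 2 ^ 3)) * e1 + (φ e * (v 0 * v 1 * v 2)) ^ 2 * e2
    refine h ((map_eq_zero φ).1 ?_)
    simpa [map_add, map_mul, map_pow, map_ofNat] using (mul_eq_zero.1 key).resolve_right (pow_ne_zero 3 hp)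
  rw [hzero, mul_zero, add_zero] at e0 e1 e2
  refine hv (funext fun i => ?_)
  rcases eq_or_ne (3 : AlgebraicClosure K) 0 with h3 | h3
  · have p12 : v 1 * v 2 = 0 := by
      refine (mul_eq_zero.1 (?_ : φ e * (v 1 * v 2) = 0)).resolve_left (hφ he)
      linear_combination h0 - (φ a * v 0 ^ 2) * h3
    have p02 : v 0 * v 2 = 0 := by
      refine (mul_eq_zero.1 (?_ : φ e * (v 0 * v 2) = 0)).resolve_left (hφ he)
      linear_combination h1 - (φ b * v 1 ^ 2) * h3
    have p01 : v 0 * v 1 = 0 := by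
      refine (mul_eq_zero.1 (?_ : φ e * (v 0 * v 1) = 0)).resolve_left (hφ he)
      linear_combination h2 - (φ c * v 2 ^ 2) * h3
    have q0 : φ a * v 0 ^ 4 = 0 := by
      linear_combination v 0 * hF - (φ b * v 1 ^ 2 + φ e * v 0 * v 2) * p01 - φ c * v 2 ^ 2 * p02
    have q1 : φ b * v 1 ^ 4 = 0 := by
      linear_combination v 1 * hF - (φ a * v 0 ^ 2 + φ e * v 1 * v 2) * p01 - φ c * v 2 ^ 2 * p12
    have q2 : φ c * v 2 ^ 4 = 0 := by
      linear_combination v 2 * hF - (φ a * v 0 ^ 2 + φ e * v 1 * v 2) * p02 - φ b * v 1 ^ 2 * p12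
    fin_cases i
    · exact eq_zero_of_pow_eq_zero ((mul_eq_zero.1 q0).resolve_left (hφ ha))
    · exact eq_zero_of_pow_eq_zero ((mul_eq_zero.1 q1).resolve_left (hφ hb))
    · exact eq_zero_of_pow_eq_zero ((mul_eq_zero.1 q2).resolve_left (hφ hc))
  · fin_cases i
    · exact eq_zero_of_pow_eq_zero ((mul_eq_zero.1 ((mul_eq_zero.1 e0).resolve_left h3)).resolve_left (hφ ha))
    · exact eq_zero_of_pow_eq_zero ((mul_eq_zero.1 ((mul_eq_zero.1 e1).resolve_left h3)).resolve_left (hφ hb))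
    · exact eq_zero_of_pow_eq_zero ((mul_eq_zero.1 ((mul_eq_zero.1 e2).resolve_left h3)).resolve_left (hφ hc))

open Polynomial in
theorem step {k : Type u} [Field k] (c : k) {x y z : k[X]}
    (h : x ^ 3 + Polynomial.X * y ^ 3 + Polynomial.X ^ 2 * z ^ 3 + Polynomial.C c * Polynomial.X * (x * y * z) = 0) :
    ∃ x' : k[X], x = Polynomial.X * x' ∧
      y ^ 3 + Polynomial.X * z ^ 3 + Polynomial.X ^ 2 * x' ^ 3 + Polynomial.C c * Polynomial.X * (y * z * x') = 0 := by
  have hX : (Polynomial.X : k[X]) ∣ x ^ 3 :=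
    ⟨-(y ^ 3 + Polynomial.X * z ^ 3 + Polynomial.C c * (x * y * z)), by linear_combination h⟩
  obtain ⟨x', rfl⟩ := Polynomial.prime_X.dvd_of_dvd_pow hX
  refine ⟨x', rfl, ?_⟩
  refine (mul_eq_zero.1 (?_ : (Polynomial.X : k[X]) * _ = 0)).resolve_left Polynomial.X_ne_zero
  linear_combination h

open Polynomial in
/-- Infinite descent at `t = 0`. -/
theorem eq_zero_of_sol {k : Type u} [Field k] (c : k) (n : ℕ) : ∀ {x y z : k[X]},
    x ^ 3 + Polynomial.X * y ^ 3 + Polynomial.X ^ 2 * z ^ 3 + Polynomial.C c * Polynomial.X * (x * y * z) = 0 →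
      Polynomial.X ^ n ∣ x ∧ Polynomial.X ^ n ∣ y ∧ Polynomial.X ^ n ∣ z := by
  induction n with
  | zero => exact fun _ => ⟨by simp, by simp, by simp⟩
  | succ n ih =>
    intro x y z h
    obtain ⟨x', rfl, h1⟩ := step c h
    obtain ⟨y', rfl, h2⟩ := step c h1
    obtain ⟨z', rfl, h3⟩ := step c h2
    obtain ⟨a, b, d⟩ := ih h3
    exact ⟨by rw [pow_succ']; exact mul_dvd_mul_left _ a, by rw [pow_succ']; exact mul_dvd_mul_left _ b,
      by rw [pow_succ']; exact mul_dvd_mul_left _ d⟩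

open Polynomial in
/-- The twisted cubic has no point over the rational function field. -/
theorem no_zero {k : Type u} [Field k] (c : k) (v : Fin 3 → RatFunc k)
    (h : aeval v (cub (1 : RatFunc k) RatFunc.X (RatFunc.X ^ 2) (RatFunc.C c * RatFunc.X)).1 = 0) : v = 0 := by
  obtain ⟨q, hq⟩ := IsLocalization.exist_integer_multiples_of_finite (nonZeroDivisors k[X]) v
  choose w hw using hq
  simp only [Algebra.smul_def] at hw
  have hpoly : (w 0) ^ 3 + Polynomial.X * (w 1) ^ 3 + Polynomial.X ^ 2 * (w 2) ^ 3 +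
      Polynomial.C c * Polynomial.X * (w 0 * w 1 * w 2) = 0 := by
    refine IsFractionRing.injective k[X] (RatFunc k) ?_
    rw [aeval_cub] at h
    simp only [Algebra.algebraMap_self, RingHom.id_apply] at h
    simp only [map_add, map_mul, map_pow, map_zero, hw, RatFunc.algebraMap_X, RatFunc.algebraMap_C]
    linear_combination (algebraMap k[X] (RatFunc k) q) ^ 3 * h
  have hz : ∀ p : k[X], (∀ n, Polynomial.X ^ n ∣ p) → p = 0 := fun p hp => by
    by_contra h0
    have := Polynomial.natDegree_le_of_dvd (hp (p.natDegree + 1)) h0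
    rw [Polynomial.natDegree_X_pow] at this
    omega
  have hw0 : ∀ i, w i = 0 := fun i => by
    refine hz _ fun n => ?_
    obtain ⟨a, b, d⟩ := eq_zero_of_sol c n hpoly
    fin_cases i
    · exact a
    · exact b
    · exact d
  funext i
  have := hw i
  rw [hw0, map_zero] at this
  exact (mul_eq_zero.1 this.symm).resolve_left (IsFractionRing.to_map_ne_zero_of_mem_nonZeroDivisors q.2)

end Groth.Agent.GenusOne14
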